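import Groth.Agent.Lib.RatMapH11.SpreadUniq
import Mathlib.AlgebraicGeometry.Birational.Birational
import Mathlib.AlgebraicGeometry.FunctionField
import Mathlib.AlgebraicGeometry.SpreadingOut

/-!
# Birational irreducible schemes over a base
-/

universe u

open CategoryTheory Limits AlgebraicGeometry TopologicalSpace

namespace Groth.Agent.Birat12

set_option backward.isDefEq.respectTransparency.types false

variable {S X Y : Scheme.{u}}

theorem specMap_eqToHom_fromSpecStalk {a b : S} (h : a = b) :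
    Spec.map (eqToHom (congrArg S.presheaf.stalk h)) ≫ S.fromSpecStalk a = S.fromSpecStalk b := by
  subst h
  simp

theorem stalk_eq_iff (sX : X ⟶ S) (sY : Y ⟶ S) (x : X) (y : Y)
    (φ : X.presheaf.stalk x ⟶ Y.presheaf.stalk y) (hs : sX x = sY y) :
    sX.stalkMap x ≫ φ = eqToHom (congrArg S.presheaf.stalk hs) ≫ sY.stalkMap y ↔
      Spec.map φ ≫ X.fromSpecStalk x ≫ sX = Y.fromSpecStalk y ≫ sY := by
  rw [← Scheme.SpecMap_stalkMap_fromSpecStalk, ← Scheme.SpecMap_stalkMap_fromSpecStalk,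
    ← specMap_eqToHom_fromSpecStalk hs, ← Category.assoc, ← Category.assoc, cancel_mono,
    ← Spec.map_comp, ← Spec.map_comp, Spec.map_inj]

theorem image_eq_of_specMap {sX : X ⟶ S} {sY : Y ⟶ S} {x : X} {y : Y}
    {φ : X.presheaf.stalk x ⟶ Y.presheaf.stalk y} [IsIso φ]
    (h : Spec.map φ ≫ X.fromSpecStalk x ≫ sX = Y.fromSpecStalk y ≫ sY) : sX x = sY y := by
  have e := congrArg (fun m : Spec (Y.presheaf.stalk y) ⟶ S => m (IsLocalRing.closedPoint _)) h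
  simp only [Scheme.Hom.comp_apply, Scheme.fromSpecStalk_closedPoint] at e
  rw [show Spec.map φ (IsLocalRing.closedPoint (Y.presheaf.stalk y)) =
    IsLocalRing.closedPoint (X.presheaf.stalk x) from IsLocalRing.comap_closedPoint φ.hom] at e
  simpa only [Scheme.fromSpecStalk_closedPoint] using e

/-- Birational irreducible schemes have isomorphic generic stalks. -/
theorem exists_stalk_iso [IrreducibleSpace X] [IrreducibleSpace Y] (sX : X ⟶ S) (sY : Y ⟶ S)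
    (h : Scheme.BirationalOver sX sY) :
    ∃ (hs : sX (genericPoint X) = sY (genericPoint Y))
      (e : X.presheaf.stalk (genericPoint X) ≅ Y.presheaf.stalk (genericPoint Y)),
      sX.stalkMap (genericPoint X) ≫ e.hom =
        eqToHom (congrArg S.presheaf.stalk hs) ≫ sY.stalkMap (genericPoint Y) := by
  obtain ⟨P, hP⟩ := h
  let U := P.source
  have hne : Nonempty U.toScheme := P.dense_source.nonempty.to_subtype
  have : IrreducibleSpace U.toScheme := U.ι.isOpenEmbedding.irreducibleSpace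
  let m : U.toScheme ⟶ Y := P.iso.hom ≫ P.target.ι
  let u := genericPoint U.toScheme
  have hm : m ≫ sY = U.ι ≫ sX := (Category.assoc _ _ _).trans hP
  suffices H : ∀ (x : X) (y : Y), U.ι u = x → m u = y →
      ∃ (hs : sX x = sY y) (e : X.presheaf.stalk x ≅ Y.presheaf.stalk y),
        sX.stalkMap x ≫ e.hom = eqToHom (congrArg S.presheaf.stalk hs) ≫ sY.stalkMap y from
    H _ _ (genericPoint_eq_of_isOpenImmersion U.ι) (genericPoint_eq_of_isOpenImmersion m)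
  rintro _ _ rfl rfl
  have hs : sX (U.ι u) = sY (m u) := by
    rw [← Scheme.Hom.comp_apply, ← Scheme.Hom.comp_apply, hm]
  let e := asIso (U.ι.stalkMap u) ≪≫ (asIso (m.stalkMap u)).symm
  refine ⟨hs, e, (stalk_eq_iff sX sY _ _ _ hs).2 ?_⟩
  rw [show e.hom = U.ι.stalkMap u ≫ inv (m.stalkMap u) from rfl, Spec.map_comp, Category.assoc,
    Scheme.SpecMap_stalkMap_fromSpecStalk_assoc, ← hm, ← Category.assoc (U.toScheme.fromSpecStalk u),
    ← Scheme.SpecMap_stalkMap_fromSpecStalk, Category.assoc, ← Spec.map_comp_assoc,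
    IsIso.hom_inv_id, Spec.map_id, Category.id_comp]

/-- Mutually inverse spreadings give a birational equivalence. -/
theorem birationalOver_of_spread [IrreducibleSpace X] [IrreducibleSpace Y] (sX : X ⟶ S) (sY : Y ⟶ S)
    [LocallyOfFiniteType sX] [LocallyOfFiniteType sY]
    (φ : X.presheaf.stalk (genericPoint X) ⟶ Y.presheaf.stalk (genericPoint Y)) [IsIso φ]
    (U : X.Opens) (hU : genericPoint X ∈ U) (f : U.toScheme ⟶ Y)
    (hf : Spec.map (inv φ) ≫ Y.fromSpecStalk (genericPoint Y) =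
      U.fromSpecStalkOfMem (genericPoint X) hU ≫ f) (hfS : f ≫ sY = U.ι ≫ sX)
    (V : Y.Opens) (hV : genericPoint Y ∈ V) (g : V.toScheme ⟶ X)
    (hg : Spec.map φ ≫ X.fromSpecStalk (genericPoint X) =
      V.fromSpecStalkOfMem (genericPoint Y) hV ≫ g) (hgS : g ≫ sX = V.ι ≫ sY) :
    Scheme.BirationalOver sX sY := by
  -- one composite is the identity near the generic point
  have key : ∀ {X Y : Scheme.{u}} (sX : X ⟶ S) (sY : Y ⟶ S) [LocallyOfFiniteType sX] (ξ : X) (η : Y)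
      (φ : X.presheaf.stalk ξ ⟶ Y.presheaf.stalk η) (ψ : Y.presheaf.stalk η ⟶ X.presheaf.stalk ξ)
      (_ : φ ≫ ψ = 𝟙 _) [IsLocalHom ψ.hom] (U : X.Opens) (hU : ξ ∈ U)
      (f : U.toScheme ⟶ Y) (_ : Spec.map ψ ≫ Y.fromSpecStalk η = U.fromSpecStalkOfMem ξ hU ≫ f)
      (_ : f ≫ sY = U.ι ≫ sX) (V : Y.Opens) (hV : η ∈ V) (g : V.toScheme ⟶ X)
      (_ : Spec.map φ ≫ X.fromSpecStalk ξ = V.fromSpecStalkOfMem η hV ≫ g)
      (_ : g ≫ sX = V.ι ≫ sY),
      ∃ O : X.Opens, ξ ∈ O ∧ ∀ (T : Scheme.{u}) (a : T ⟶ U.toScheme) (b : T ⟶ V.toScheme),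
        a ≫ f = b ≫ V.ι → Set.range (a ≫ U.ι) ⊆ (O : Set X) → b ≫ g = a ≫ U.ι := by
    intro X Y sX sY hsX ξ η φ ψ hφψ hψ U hU f hf hfS V hV g hg hgS
    have hfξ : f ⟨ξ, hU⟩ = η := by
      have e := congrArg (fun m : Spec (X.presheaf.stalk ξ) ⟶ Y => m (IsLocalRing.closedPoint _)) hf
      simp only [Scheme.Hom.comp_apply] at e
      rw [show Spec.map ψ (IsLocalRing.closedPoint (X.presheaf.stalk ξ)) =
        IsLocalRing.closedPoint (Y.presheaf.stalk η) from IsLocalRing.comap_closedPoint ψ.hom,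
        Scheme.fromSpecStalk_closedPoint] at e
      rw [e]
      congr 1
      apply U.ι.isOpenEmbedding.injective
      rw [← Scheme.Hom.comp_apply, Scheme.Opens.fromSpecStalkOfMem_ι, Scheme.fromSpecStalk_closedPoint]
      rfl
    let W : U.toScheme.Opens := f ⁻¹ᵁ V
    let ξ' : W.toScheme := ⟨⟨ξ, hU⟩, show f ⟨ξ, hU⟩ ∈ V from hfξ.symm ▸ hV⟩
    let l : W.toScheme ⟶ V.toScheme := f ∣_ V
    have hl : l ≫ V.ι = W.ι ≫ f := morphismRestrict_ι f V
    have hS : (l ≫ g) ≫ sX = (W.ι ≫ U.ι) ≫ sX := by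
      rw [Category.assoc, hgS, ← Category.assoc, hl, Category.assoc, hfS, Category.assoc]
    have e : W.toScheme.fromSpecStalk ξ' ≫ (l ≫ g) = W.toScheme.fromSpecStalk ξ' ≫ (W.ι ≫ U.ι) := by
      have h1 : W.toScheme.fromSpecStalk ξ' ≫ (W.ι ≫ U.ι) =
          Spec.map ((W.ι ≫ U.ι).stalkMap ξ') ≫ X.fromSpecStalk ξ :=
        (Scheme.SpecMap_stalkMap_fromSpecStalk (f := W.ι ≫ U.ι) (x := ξ')).symm
      let k : Spec (W.toScheme.presheaf.stalk ξ') ⟶ Spec (X.presheaf.stalk ξ) :=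
        Spec.map ((W.ι ≫ U.ι).stalkMap ξ')
      have h1' : W.toScheme.fromSpecStalk ξ' ≫ (W.ι ≫ U.ι) = k ≫ X.fromSpecStalk ξ := h1
      clear_value k
      have h3 : W.toScheme.fromSpecStalk ξ' ≫ W.ι = k ≫ U.fromSpecStalkOfMem ξ hU := by
        rw [← cancel_mono U.ι, Category.assoc, h1', Category.assoc,
          Scheme.Opens.fromSpecStalkOfMem_ι]
      have h2 : W.toScheme.fromSpecStalk ξ' ≫ l =
          k ≫ Spec.map ψ ≫ V.fromSpecStalkOfMem η hV := by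
        rw [← cancel_mono V.ι, Category.assoc, hl, Category.assoc, Category.assoc,
          Scheme.Opens.fromSpecStalkOfMem_ι, hf, ← Category.assoc, h3, Category.assoc]
      rw [← Category.assoc, h2, Category.assoc, Category.assoc, ← hg, ← Spec.map_comp_assoc,
        hφψ, Spec.map_id, Category.id_comp, h1']
    obtain ⟨O', hO', hO''⟩ := RatMapH11.spread_out_unique_of_finiteType sX (l ≫ g) (W.ι ≫ U.ι) hS ξ' e
    refine ⟨(W.ι ≫ U.ι) ''ᵁ O', ⟨ξ', hO', rfl⟩, fun T a b hab hr => ?_⟩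
    have hr' : Set.range a ⊆ Set.range (O'.ι ≫ W.ι) := by
      rintro _ ⟨t, rfl⟩
      obtain ⟨o, ho, e⟩ := hr ⟨t, rfl⟩
      exact ⟨⟨o, ho⟩, U.ι.isOpenEmbedding.injective e⟩
    let c := IsOpenImmersion.lift (O'.ι ≫ W.ι) a hr'
    have hc : c ≫ O'.ι ≫ W.ι = a := IsOpenImmersion.lift_fac ..
    have hb : b = c ≫ O'.ι ≫ l := by
      rw [← cancel_mono V.ι, ← hab, ← hc]
      simp only [Category.assoc, hl]
    rw [hb, ← hc]
    simp only [Category.assoc]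
    exact congrArg (c ≫ ·) hO''
  obtain ⟨O₁, hξ, h₁⟩ := key sX sY _ _ φ (inv φ) (IsIso.hom_inv_id φ) U hU f hf hfS V hV g hg hgS
  obtain ⟨O₂, hη, h₂⟩ := key sY sX _ _ (inv φ) φ (IsIso.inv_hom_id φ) V hV g hg hgS
    U hU f hf hfS
  have hfξ : f ⟨genericPoint X, hU⟩ = genericPoint Y := by
    have e := congrArg (fun m : Spec (X.presheaf.stalk (genericPoint X)) ⟶ Y =>
      m (IsLocalRing.closedPoint _)) hf
    simp only [Scheme.Hom.comp_apply] at e
    rw [show Spec.map (inv φ) (IsLocalRing.closedPoint (X.presheaf.stalk (genericPoint X))) =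
      IsLocalRing.closedPoint (Y.presheaf.stalk (genericPoint Y)) from
        IsLocalRing.comap_closedPoint (inv φ).hom, Scheme.fromSpecStalk_closedPoint] at e
    rw [e]
    congr 1
    apply U.ι.isOpenEmbedding.injective
    rw [← Scheme.Hom.comp_apply, Scheme.Opens.fromSpecStalkOfMem_ι, Scheme.fromSpecStalk_closedPoint]
    rfl
  -- the two opens
  let A : X.Opens := U.ι ''ᵁ (U.ι ⁻¹ᵁ O₁ ⊓ f ⁻¹ᵁ (V ⊓ O₂))
  let B : Y.Opens := V.ι ''ᵁ (V.ι ⁻¹ᵁ O₂ ⊓ g ⁻¹ᵁ A)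
  have hAU : A ≤ U := by rintro _ ⟨a, -, rfl⟩; exact a.2
  have hBV : B ≤ V := by rintro _ ⟨b, -, rfl⟩; exact b.2
  have hAmem : ∀ a : A.toScheme, f (X.homOfLE hAU a) ∈ V ⊓ O₂ ∧ a.1 ∈ O₁ := by
    rintro ⟨_, a, ha, rfl⟩
    have e : X.homOfLE hAU ⟨U.ι a, ⟨a, ha, rfl⟩⟩ = a :=
      U.ι.isOpenEmbedding.injective (by rw [← Scheme.Hom.comp_apply, Scheme.homOfLE_ι]; rfl)
    refine ⟨?_, ha.1⟩
    show f (X.homOfLE hAU ⟨U.ι a, ⟨a, ha, rfl⟩⟩) ∈ V ⊓ O₂
    rw [e]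
    exact ha.2
  have hBmem : ∀ b : B.toScheme, g (Y.homOfLE hBV b) ∈ A ∧ b.1 ∈ O₂ := by
    rintro ⟨_, b, hb, rfl⟩
    have e : Y.homOfLE hBV ⟨V.ι b, ⟨b, hb, rfl⟩⟩ = b :=
      V.ι.isOpenEmbedding.injective (by rw [← Scheme.Hom.comp_apply, Scheme.homOfLE_ι]; rfl)
    refine ⟨?_, hb.1⟩
    show g (Y.homOfLE hBV ⟨V.ι b, ⟨b, hb, rfl⟩⟩) ∈ A
    rw [e]
    exact hb.2
  let a' : A.toScheme ⟶ V.toScheme := IsOpenImmersion.lift V.ι (X.homOfLE hAU ≫ f) (by
    rintro _ ⟨a, rfl⟩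
    rw [Scheme.Opens.range_ι]
    exact (hAmem a).1.1)
  have ha' : a' ≫ V.ι = X.homOfLE hAU ≫ f := IsOpenImmersion.lift_fac ..
  have ha'g : a' ≫ g = A.ι := by
    rw [h₁ _ (X.homOfLE hAU) a' ha'.symm (by
      rintro _ ⟨a, rfl⟩
      rw [Scheme.homOfLE_ι]
      exact (hAmem a).2), Scheme.homOfLE_ι]
  let s : A.toScheme ⟶ B.toScheme := IsOpenImmersion.lift B.ι (X.homOfLE hAU ≫ f) (by
    rintro _ ⟨a, rfl⟩
    rw [Scheme.Opens.range_ι, ← ha']
    refine ⟨a' a, ⟨?_, ?_⟩, rfl⟩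
    · show V.ι (a' a) ∈ O₂
      rw [← Scheme.Hom.comp_apply, ha']
      exact (hAmem a).1.2
    · show g (a' a) ∈ A
      rw [← Scheme.Hom.comp_apply, ha'g]
      exact a.2)
  let t : B.toScheme ⟶ A.toScheme := IsOpenImmersion.lift A.ι (Y.homOfLE hBV ≫ g) (by
    rintro _ ⟨b, rfl⟩
    rw [Scheme.Opens.range_ι]
    exact (hBmem b).1)
  have hs : s ≫ B.ι = X.homOfLE hAU ≫ f := IsOpenImmersion.lift_fac ..
  have ht : t ≫ A.ι = Y.homOfLE hBV ≫ g := IsOpenImmersion.lift_fac ..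
  have hsa : s ≫ Y.homOfLE hBV = a' := by
    rw [← cancel_mono V.ι, Category.assoc, Scheme.homOfLE_ι, hs, ha']
  have hst : s ≫ t = 𝟙 _ := by
    rw [← cancel_mono A.ι, Category.assoc, ht, ← Category.assoc, hsa, ha'g, Category.id_comp]
  have hts : t ≫ s = 𝟙 _ := by
    rw [← cancel_mono B.ι, Category.assoc, hs, Category.id_comp, ← Category.assoc]
    have htu : (t ≫ X.homOfLE hAU) ≫ U.ι = Y.homOfLE hBV ≫ g := by
      rw [Category.assoc, Scheme.homOfLE_ι, ht]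
    rw [h₂ _ (Y.homOfLE hBV) (t ≫ X.homOfLE hAU) htu.symm (by
      rintro _ ⟨b, rfl⟩
      rw [Scheme.homOfLE_ι]
      exact (hBmem b).2), Scheme.homOfLE_ι]
  have hξA : genericPoint X ∈ A := ⟨⟨_, hU⟩, ⟨hξ, (show f ⟨_, hU⟩ ∈ V ⊓ O₂ by rw [hfξ]; exact ⟨hV, hη⟩)⟩, rfl⟩
  refine ⟨⟨A, A.isOpen.dense ⟨_, hξA⟩, B, B.isOpen.dense ⟨_, (s ⟨_, hξA⟩).2⟩, ⟨s, t, hst, hts⟩⟩, ?_⟩
  show s ≫ B.ι ≫ sY = A.ι ≫ sX
  rw [← Category.assoc, hs, Category.assoc, hfS, ← Category.assoc, Scheme.homOfLE_ι]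

@[reassoc]
theorem eqToHom_residue {a b : S} (h : a = b) :
    eqToHom (congrArg S.presheaf.stalk h) ≫ S.residue b =
      S.residue a ≫ eqToHom (congrArg S.residueField h) := by
  subst h
  simp

theorem isIso_residue (X : Scheme.{u}) [IsIntegral X] : IsIso (X.residue (genericPoint X)) := by
  rw [ConcreteCategory.isIso_iff_bijective]
  refine ⟨?_, X.residue_surjective _⟩
  exact RingHom.injective (X.residue (genericPoint X)).hom

end Groth.Agent.Birat12
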