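import Groth.Agent.Lib.LocImm12.Local
import Groth.Agent.Lib.Birat12.Basic

/-!
# Fibres over generic points of birational morphisms
-/

universe u

open CategoryTheory Limits AlgebraicGeometry TopologicalSpace

set_option backward.isDefEq.respectTransparency.types false

namespace Groth.Agent.Birat12

variable {X Y : Scheme.{u}}

/-- A point of the fibre whose generalisation has isomorphic stalk is that generalisation. -/
theorem eq_of_stalkSpecializes (f : X ⟶ Y) {g x : X} (h : g ⤳ x) (hf : f g = f x)
    [IsIso (f.stalkMap g)] : x = g := by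
  let s := X.presheaf.stalkSpecializes h
  let φ : Y.presheaf.stalk (f g) ⟶ X.presheaf.stalk x :=
    Y.presheaf.stalkSpecializes (Inseparable.of_eq hf).symm.specializes ≫ f.stalkMap x
  let B := X.presheaf.stalk x
  have hφ : φ ≫ s = f.stalkMap g := by
    rw [Category.assoc, ← Scheme.Hom.stalkSpecializes_stalkMap f g x h, ← Category.assoc,
      TopCat.Presheaf.stalkSpecializes_comp]
    have : ∀ h' : f g ⤳ f g, Y.presheaf.stalkSpecializes h' = 𝟙 _ := fun h' =>
      TopCat.Presheaf.stalkSpecializes_refl _ _
    rw [this, Category.id_comp]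
  have hs : IsLocalHom s.hom := by
    refine ⟨fun b hb => ?_⟩
    obtain ⟨v, hv⟩ := (ConcreteCategory.bijective_of_isIso (f.stalkMap g)).2 (s.hom b)
    have hvu : IsUnit v := by
      have := hb.map (inv (f.stalkMap g)).hom
      rwa [← hv, ← CommRingCat.comp_apply, IsIso.hom_inv_id] at this
    let k := b - φ.hom v
    have hk : s.hom k = 0 := by
      rw [map_sub, ← CommRingCat.comp_apply, hφ, hv, sub_self]
    have hkmax : k ∈ IsLocalRing.maximalIdeal B := by
      by_contra hk'
      have := (IsLocalRing.notMem_maximalIdeal.1 hk').map s.hom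
      rw [hk] at this
      exact not_isUnit_zero this
    by_contra hu
    have h1 : φ.hom v ∈ IsLocalRing.maximalIdeal B := by
      have := (IsLocalRing.maximalIdeal B).sub_mem ((IsLocalRing.mem_maximalIdeal b).2 hu) hkmax
      rwa [show b - k = φ.hom v from sub_sub_cancel b _] at this
    exact (IsLocalRing.mem_maximalIdeal _).1 h1 (hvu.map φ.hom)
  have h2 := congrArg (fun m : Spec (X.presheaf.stalk g) ⟶ X => m (IsLocalRing.closedPoint _))
    (Scheme.SpecMap_stalkSpecializes_fromSpecStalk h)
  simp only [Scheme.Hom.comp_apply, Scheme.fromSpecStalk_closedPoint] at h2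
  rw [show Spec.map (X.presheaf.stalkSpecializes h) (IsLocalRing.closedPoint (X.presheaf.stalk g)) =
    IsLocalRing.closedPoint (X.presheaf.stalk x) from IsLocalRing.comap_closedPoint s.hom,
    Scheme.fromSpecStalk_closedPoint] at h2
  exact h2

/-- A one point scheme is the spectrum of its stalk. -/
theorem isIso_fromSpecStalk [Subsingleton X] (p : X) : IsIso (X.fromSpecStalk p) := by
  haveI := LocImm12.flat_of_isLocalizing (LocImm12.isLocImmersion_fromSpecStalk p).1
  have hr : Set.range (X.fromSpecStalk p) = Set.univ :=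
    Set.eq_univ_of_forall fun z => ⟨IsLocalRing.closedPoint _, Subsingleton.elim _ _⟩
  haveI := LocImm12.isOpenImmersion_of_isOpen_range (X.fromSpecStalk p) (by rw [hr]; exact isOpen_univ)
  rw [isIso_iff_isOpenImmersion_and_epi_base, TopCat.epi_iff_surjective]
  exact ⟨inferInstance, Set.range_eq_univ.1 hr⟩

theorem exists_factor_fromSpecStalk {P : Scheme.{u}} [Subsingleton P] (a : P ⟶ X) (p : P) {x : X}
    (hx : a p = x) : ∃ c : P ⟶ Spec (X.presheaf.stalk x), c ≫ X.fromSpecStalk x = a := by
  subst hx
  haveI := isIso_fromSpecStalk p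
  exact ⟨inv (P.fromSpecStalk p) ≫ Spec.map (a.stalkMap p), by
    rw [Category.assoc, Scheme.SpecMap_stalkMap_fromSpecStalk, IsIso.inv_hom_id_assoc]⟩

end Groth.Agent.Birat12
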